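import Mathlib
import Cfsg.Agent.Lib.RecogThree.Derangements
import Cfsg.Agent.Lib.Cores.Basic

/-!
Tools for class-size statements whose odd-order part is an explicit hypothesis.

* `OddSolvable` : the hypothesis that groups of odd order are solvable;
* `exists_not_conj_mem` : a proper subgroup misses some element up to conjugation;
* `solvable_of_no_simple` : solvability from the absence of non-abelian simple subquotients,
  for a property inherited by normal subgroups and quotients.
-/

universe u

namespace Cfsg.Agent.Lib.FTClassSize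

open Subgroup MulAction

/-- Groups of odd order are solvable. -/
def OddSolvable : Prop :=
  ∀ (H : Type u) [Group H] [Finite H], Odd (Nat.card H) → Group.IsSolvable H

/-- A proper subgroup does not meet every conjugacy class. -/
theorem exists_not_conj_mem {G : Type u} [Group G] [Finite G] (H : Subgroup G) (hH : H ≠ ⊤) :
    ∃ x : G, ∀ g : G, g * x * g⁻¹ ∉ H := by
  have h2 : 1 < Nat.card (G ⧸ H) := H.one_lt_index_of_ne_top hH
  obtain ⟨x, hx⟩ := RecogThree.Derangements.exists_derangement (G := G) (Y := G ⧸ H) h2
  refine ⟨x, fun g hg => hx ((g⁻¹ : G) : G ⧸ H) ?_⟩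
  rw [MulAction.Quotient.smul_mk, QuotientGroup.eq]
  have : (x • g⁻¹)⁻¹ * g⁻¹ = (g * x * g⁻¹)⁻¹ := by rw [smul_eq_mul]; group
  rw [this]
  exact inv_mem hg

/-- If every element commutes with a conjugate of `z`, then `z` is central. -/
theorem mem_center_of_forall_commute {G : Type u} [Group G] [Finite G] {z : G}
    (h : ∀ x : G, ∃ g : G, Commute (g * x * g⁻¹) z) : z ∈ center G := by
  by_contra hz
  have hne : centralizer ({z} : Set G) ≠ ⊤ := fun htop => hz (mem_center_iff.2 fun g =>
    mem_centralizer_singleton_iff.1 (htop ▸ mem_top g))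
  obtain ⟨x, hx⟩ := exists_not_conj_mem _ hne
  obtain ⟨g, hg⟩ := h x
  exact hx g (mem_centralizer_singleton_iff.2 hg.eq)

/-- A non-abelian simple group has trivial center. -/
theorem center_eq_bot_of_simple {G : Type u} [Group G] [IsSimpleGroup G]
    (hna : ¬ IsMulCommutative G) : center G = ⊥ := by
  refine ((inferInstance : (center G).Normal).eq_bot_or_eq_top).resolve_right fun h => hna ⟨⟨fun a b => ?_⟩⟩
  exact mem_center_iff.1 (h ▸ mem_top b) a

/-- Solvability from a hereditary property without simple non-abelian members. -/
theorem solvable_of_no_simple (P : ∀ (G : Type u) [Group G], Prop)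
    (hsub : ∀ (G : Type u) [Group G] [Finite G] (N : Subgroup G) [N.Normal], P G → P N)
    (hquo : ∀ (G : Type u) [Group G] [Finite G] (N : Subgroup G) [N.Normal], P G → P (G ⧸ N))
    (hsimple : ∀ (G : Type u) [Group G] [Finite G], IsSimpleGroup G → ¬ IsMulCommutative G → ¬ P G)
    (G : Type u) [Group G] [Finite G] (hG : P G) : Group.IsSolvable G := by
  induction hn : Nat.card G using Nat.strong_induction_on generalizing G with
  | _ n ih =>
    subst hn
    rcases subsingleton_or_nontrivial G with h | h
    · exact Group.isSolvable_of_comm fun a b => Subsingleton.elim _ _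
    by_cases hs : ∀ N : Subgroup G, N.Normal → N = ⊥ ∨ N = ⊤
    · haveI : IsSimpleGroup G := ⟨hs⟩
      by_cases hc : IsMulCommutative G
      · exact Group.isSolvable_of_comm hc.is_comm.comm
      · exact absurd hG (hsimple G ‹_› hc)
    push Not at hs
    obtain ⟨N, hN, hN1, hN2⟩ := hs
    haveI := hN
    have h1 : Nat.card N < Nat.card G := by
      refine lt_of_le_of_ne (Nat.card_le_card_of_injective _ N.subtype_injective) fun e => hN2 ?_
      exact Subgroup.eq_top_of_card_eq N e
    have h2 : Nat.card (G ⧸ N) < Nat.card G := by
      rw [← N.index_mul_card]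
      have : 1 < Nat.card N := Finite.one_lt_card_iff_nontrivial.2
        ((nontrivial_iff_ne_bot N).2 hN1)
      exact lt_mul_of_one_lt_right (Nat.pos_of_ne_zero N.index_ne_zero_of_finite) this
    haveI := ih _ h1 N (hsub G N hG) rfl
    haveI := ih _ h2 (G ⧸ N) (hquo G N hG) rfl
    exact solvable_of_ker_le_range N.subtype (QuotientGroup.mk' N)
      (by rw [QuotientGroup.ker_mk', Subgroup.range_subtype])

end Cfsg.Agent.Lib.FTClassSize
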