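import Cfsg.Agent.Lib.FTClassSize.Basic
import Cfsg.Agent.Lib.PrimePowerClass.Baer
import Cfsg.Agent.Lib.TwoLargest.Basic

/-!
Chillag–Herzog: if `4` divides no class size then the group is solvable (given the solvability of
groups of odd order).

In a non-abelian simple group of even order every element would centralise a subgroup of index at
most two of a Sylow 2-subgroup `S`.  A square of an element of `S` lies in all of these, so `S` is
elementary abelian; an orbit of the normaliser on `S` has odd length and trivial product, so it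
meets all subgroups of index two.  In both cases all elements centralise conjugates of one
non-identity element.
-/

universe u

namespace Cfsg.Agent.Lib.FTClassSize

open Subgroup
open scoped IsMulCommutative

/-- No class size is divisible by `4`. -/
def NoFour (G : Type u) [Group G] : Prop :=
  ∀ x : G, ¬ 4 ∣ (centralizer ({x} : Set G)).index

section

variable {G : Type u} [Group G] [Finite G]

/-- Every element has a conjugate centralised by a subgroup of index at most two in `S`. -/
theorem exists_large_centralized (h : NoFour G) (S : Sylow 2 G) (x : G) :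
    ∃ (g : G) (M : Subgroup S), (M = ⊤ ∨ M.index = 2) ∧
      ∀ m ∈ M, Commute (g * x * g⁻¹) ((m : S) : G) := by
  set C := centralizer ({x} : Set G) with hC
  obtain ⟨R⟩ : Nonempty (Sylow 2 C) := inferInstance
  set R' : Subgroup G := (R : Subgroup C).map C.subtype with hR'
  obtain ⟨P, hP⟩ := (R.2.map C.subtype).exists_le_sylow
  obtain ⟨g, hg⟩ := MulAction.exists_smul_eq G P S
  set M : Subgroup S := (R'.map (MulAut.conj g).toMonoidHom).subgroupOf (S : Subgroup G) with hM
  have hle : R'.map (MulAut.conj g).toMonoidHom ≤ (S : Subgroup G) := by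
    rw [← hg, Sylow.coe_subgroup_smul]
    exact Subgroup.map_mono hP
  refine ⟨g, M, ?_, fun m hm => ?_⟩
  · have hcard : Nat.card M = 2 ^ (Nat.card C).factorization 2 := by
      rw [hM, Nat.card_congr (subgroupOfEquivOfLe hle).toEquiv,
        Subgroup.card_map_of_injective (MulAut.conj g).injective, hR',
        Subgroup.card_map_of_injective C.subtype_injective, R.card_eq_multiplicity]
    have hS : Nat.card S = 2 ^ (Nat.card G).factorization 2 := S.card_eq_multiplicity
    have hCG : (Nat.card G).factorization 2 =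
        C.index.factorization 2 + (Nat.card C).factorization 2 := by
      rw [← C.index_mul_card, Nat.factorization_mul C.index_ne_zero_of_finite Nat.card_pos.ne',
        Finsupp.add_apply]
    have h4 : C.index.factorization 2 < 2 := by
      by_contra hcon
      exact h x ((pow_dvd_pow 2 (not_lt.1 hcon)).trans (Nat.ordProj_dvd _ _))
    have hi := M.index_mul_card
    rw [hcard, hS, hCG, pow_add] at hi
    have hi' : M.index = 2 ^ C.index.factorization 2 :=
      Nat.eq_of_mul_eq_mul_right (pow_pos two_pos _) hi
    interval_cases hk : C.index.factorization 2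
    · exact Or.inl (index_eq_one.1 (by simpa using hi'))
    · exact Or.inr (by simpa using hi')
  · rw [hM, mem_subgroupOf] at hm
    obtain ⟨r, hr, hrm⟩ := hm
    obtain ⟨c, -, rfl⟩ := hr
    have hc : Commute x (c : G) := (mem_centralizer_singleton_iff.1 c.2).symm
    rw [← hrm]
    exact hc.map (MulAut.conj g).toMonoidHom

/-- In a simple group of even order some class size is divisible by four. -/
theorem not_noFour [IsSimpleGroup G] (hna : ¬ IsMulCommutative G) (heven : Even (Nat.card G)) :
    ¬ NoFour G := by
  intro h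
  obtain ⟨S⟩ : Nonempty (Sylow 2 G) := inferInstance
  have hZ := center_eq_bot_of_simple hna
  -- nothing non-trivial lies in all large subgroups of `S`
  have key : ∀ z : G, z ≠ 1 →
      ¬ ∀ M : Subgroup S, (M = ⊤ ∨ M.index = 2) → ∃ m ∈ M, IsConj z ((m : S) : G) := by
    intro z hz hall
    refine hz (mem_bot.1 (hZ ▸ mem_center_of_forall_commute fun x => ?_))
    obtain ⟨g, M, hM, hc⟩ := exists_large_centralized h S x
    obtain ⟨m, hm, hzm⟩ := hall M hM
    obtain ⟨k, hk⟩ := isConj_iff.1 hzm
    refine ⟨k⁻¹ * g, ?_⟩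
    have h' := (hc m hm).map (MulAut.conj k⁻¹).toMonoidHom
    have e1 : (MulAut.conj k⁻¹).toMonoidHom (g * x * g⁻¹) = k⁻¹ * g * x * (k⁻¹ * g)⁻¹ := by
      simp [mul_assoc]
    have e2 : (MulAut.conj k⁻¹).toMonoidHom ((m : S) : G) = z := by
      rw [← hk]; simp [mul_assoc]
    rwa [e1, e2] at h'
  -- `S` has exponent two
  have hexp : ∀ s : S, s * s = 1 := by
    intro s
    by_contra hs
    refine key ((s * s : S) : G) (fun e => hs (Subtype.ext e)) fun M hM => ⟨s * s, ?_, IsConj.refl _⟩
    rcases hM with rfl | hM
    · exact mem_top _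
    · exact Subgroup.mul_self_mem_of_index_two hM s
  haveI hab : IsMulCommutative (S : Subgroup G) := ⟨⟨fun a b => by
    have := hexp (a * b)
    have ha : a⁻¹ = a := inv_eq_of_mul_eq_one_right (hexp a)
    have hb : b⁻¹ = b := inv_eq_of_mul_eq_one_right (hexp b)
    calc a * b = (a * b)⁻¹ := (inv_eq_of_mul_eq_one_right this).symm
      _ = b * a := by rw [mul_inv_rev, ha, hb]⟩⟩
  obtain ⟨s, hs⟩ : ∃ s : S, s ≠ 1 := by
    have : Nontrivial S := Finite.one_lt_card_iff_nontrivial.1 (by
      show 1 < Nat.card (S : Subgroup G)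
      rw [S.card_eq_multiplicity]
      exact Nat.one_lt_pow (Nat.pos_iff_ne_zero.1
        (Nat.prime_two.factorization_pos_of_dvd Nat.card_pos.ne' (even_iff_two_dvd.1 heven))) one_lt_two)
    exact exists_ne 1
  -- an element centralised by the normaliser is trivial
  have hfix : ∀ t : S, (∀ n ∈ normalizer ((S : Subgroup G) : Set G), n * (t : G) * n⁻¹ = t) →
      t = 1 := by
    intro t ht
    haveI : (S : Subgroup G).FiniteIndex := inferInstance
    let φ := MonoidHom.transfer (MonoidHom.id (S : Subgroup G))
    have hker : φ.ker = ⊤ := by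
      rcases (inferInstance : φ.ker.Normal).eq_bot_or_eq_top with hb | ht'
      · exfalso
        refine hna ⟨⟨fun a b => ?_⟩⟩
        apply (MonoidHom.ker_eq_bot_iff _).1 hb
        rw [map_mul, map_mul]
        exact hab.is_comm.comm _ _
      · exact ht'
    have hkey : ∀ (k : ℕ) (g₀ : G), g₀⁻¹ * (t : G) ^ k * g₀ ∈ (S : Subgroup G) →
        g₀⁻¹ * (t : G) ^ k * g₀ = (t : G) ^ k := by
      intro k g₀ hk
      obtain ⟨n, hn, hn'⟩ := S.conj_eq_normalizer_conj_of_mem ((t : G) ^ k) g₀
        (pow_mem t.2 k) hk
      have htn : n * (t : G) ^ k * n⁻¹ = (t : G) ^ k := by rw [← conj_pow, ht n hn]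
      calc g₀⁻¹ * (t : G) ^ k * g₀ = n⁻¹ * (t : G) ^ k * n := hn'
        _ = n⁻¹ * (n * (t : G) ^ k * n⁻¹) * n := by rw [htn]
        _ = (t : G) ^ k := by group
    have h1 := MonoidHom.transfer_eq_pow (MonoidHom.id (S : Subgroup G)) (t : G) hkey
    have h2 : φ (t : G) = 1 := MonoidHom.mem_ker.1 (hker ▸ mem_top _)
    rw [h2] at h1
    have h3 : t ^ (S : Subgroup G).index = 1 := Subtype.ext (congrArg Subtype.val h1).symm
    have h4 : (orderOf t) ∣ Nat.gcd (S : Subgroup G).index 2 :=
      Nat.dvd_gcd (orderOf_dvd_of_pow_eq_one h3)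
        (orderOf_dvd_of_pow_eq_one (by rw [sq]; exact hexp t))
    have h5 : Nat.gcd (S : Subgroup G).index 2 = 1 :=
      Nat.coprime_comm.1 ((Nat.prime_two.coprime_iff_not_dvd).2 S.not_dvd_index)
    rw [h5] at h4
    exact orderOf_eq_one_iff.1 (Nat.dvd_one.1 h4)
  refine key (s : G) (fun e => hs (Subtype.ext e)) fun M hM => ?_
  by_contra hcon
  push Not at hcon
  rcases hM with rfl | hM
  · exact hcon s (mem_top _) (IsConj.refl _)
  -- the orbit of `s` under the normaliser
  classical
  haveI : Fintype S := Fintype.ofFinite _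
  let N := normalizer ((S : Subgroup G) : Set G)
  let O : Finset S := Finset.univ.filter fun t : S => ∃ n ∈ N, n * (s : G) * n⁻¹ = t
  have hOodd : Odd O.card := by
    let cl : Subgroup N := (centralizer ({(s : G)} : Set G)).subgroupOf N
    have hSle : (S : Subgroup G).subgroupOf N ≤ cl := fun n hn =>
      mem_subgroupOf.2 (mem_centralizer_singleton_iff.2
        (congrArg Subtype.val (hab.is_comm.comm ⟨_, mem_subgroupOf.1 hn⟩ s)))
    have hodd : Odd cl.index := by
      rw [← Nat.not_even_iff_odd, even_iff_two_dvd]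
      intro hd
      apply S.not_dvd_index
      refine (hd.trans (Subgroup.index_dvd_of_le hSle)).trans ?_
      exact Subgroup.relIndex_dvd_index_of_le le_normalizer
    have e : cl.index = O.card := by
      have hcard : Nat.card {t : S // t ∈ O} = O.card := by simp
      rw [← hcard, Subgroup.index]
      refine Nat.card_congr (Equiv.ofBijective (Quotient.lift
        (fun n : N => (⟨⟨(n : G) * s * (n : G)⁻¹, (mem_normalizer_iff.1 n.2 _).1 s.2⟩,
          Finset.mem_filter.2 ⟨Finset.mem_univ _, n, n.2, rfl⟩⟩ : {t : S // t ∈ O})) ?_) ⟨?_, ?_⟩)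
      · intro a b hab'
        have hab'' := mem_subgroupOf.1 (QuotientGroup.leftRel_apply.1 hab')
        rw [mem_centralizer_singleton_iff] at hab''
        refine Subtype.ext (Subtype.ext ?_)
        show (a : G) * s * (a : G)⁻¹ = (b : G) * s * (b : G)⁻¹
        push_cast at hab''
        calc (a : G) * s * (a : G)⁻¹
            = (a : G) * ((s : G) * ((a : G)⁻¹ * b)) * (b : G)⁻¹ := by group
          _ = (b : G) * s * (b : G)⁻¹ := by rw [← hab'']; group
      · rintro ⟨a⟩ ⟨b⟩ hab'
        apply Quotient.sound
        apply QuotientGroup.leftRel_apply.2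
        refine mem_subgroupOf.2 (mem_centralizer_singleton_iff.2 ?_)
        have h' : (a : G) * s * (a : G)⁻¹ = (b : G) * s * (b : G)⁻¹ :=
          congrArg (fun z : {t : S // t ∈ O} => ((z : S) : G)) hab'
        push_cast
        calc (a : G)⁻¹ * b * s = (a : G)⁻¹ * ((b : G) * s * (b : G)⁻¹) * b := by group
          _ = s * ((a : G)⁻¹ * b) := by rw [← h']; group
      · rintro ⟨t, ht⟩
        obtain ⟨n, hn, e⟩ := (Finset.mem_filter.1 ht).2
        exact ⟨Quotient.mk'' ⟨n, hn⟩, Subtype.ext (Subtype.ext e)⟩
    rwa [← e]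
  have hout : ∀ t ∈ O, t ∉ M := by
    intro t ht htM
    obtain ⟨n, -, e⟩ := (Finset.mem_filter.1 ht).2
    exact hcon t htM (isConj_iff.2 ⟨n, e⟩)
  have hparity : ∀ T : Finset S, (∀ t ∈ T, t ∉ M) → ((∏ t ∈ T, t) ∈ M ↔ Even T.card) := by
    intro T
    induction T using Finset.induction_on with
    | empty => simp
    | insert a T' ha ihT =>
      intro hT
      rw [Finset.prod_insert ha, Finset.card_insert_of_notMem ha, mul_mem_iff_of_index_two hM,
        ihT fun t ht => hT t (Finset.mem_insert_of_mem ht), Nat.even_add_one]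
      simp [hT a (Finset.mem_insert_self _ _)]
  refine (Nat.not_even_iff_odd.2 hOodd) ((hparity O hout).1 ?_)
  rw [hfix (∏ t ∈ O, t) fun n hn => ?_]
  · exact one_mem M
  let f : S →* S :=
    { toFun := fun t => ⟨n * (t : G) * n⁻¹, (mem_normalizer_iff.1 hn _).1 t.2⟩
      map_one' := Subtype.ext (by simp)
      map_mul' := fun a b => Subtype.ext (by simp [mul_assoc]) }
  have hinj : Function.Injective f := fun a b e => Subtype.ext (by
    simpa [f] using congrArg Subtype.val e)
  have himg : O.image f = O := by
    refine Finset.eq_of_subset_of_card_le (fun t ht => ?_) (Finset.card_image_of_injective _ hinj).ge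
    obtain ⟨a, ha, rfl⟩ := Finset.mem_image.1 ht
    obtain ⟨k, hk, e⟩ := (Finset.mem_filter.1 ha).2
    refine Finset.mem_filter.2 ⟨Finset.mem_univ _, n * k, mul_mem hn hk, ?_⟩
    show n * k * (s : G) * (n * k)⁻¹ = n * (a : G) * n⁻¹
    rw [← e]; group
  have : f (∏ t ∈ O, t) = ∏ t ∈ O, t := by
    rw [map_prod]
    conv_rhs => rw [← himg]
    rw [Finset.prod_image fun a _ b _ e => hinj e]
  exact congrArg Subtype.val this

end

/-- If four divides no class size, the group is solvable, given the odd order theorem. -/
theorem isSolvable_of_noFour (hFT : OddSolvable.{u}) (G : Type u) [Group G] [Finite G]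
    (h : NoFour G) : Group.IsSolvable G := by
  refine solvable_of_no_simple (fun G _ => NoFour G) ?_ ?_ ?_ G h
  · intro G _ _ N _ hG x hd
    refine hG (x : G) (hd.trans ?_)
    have e : centralizer ({x} : Set N) = (centralizer ({(x : G)} : Set G)).subgroupOf N := by
      ext y
      simp [mem_subgroupOf, mem_centralizer_singleton_iff, Subtype.ext_iff]
    rw [e]
    exact TwoLargest.relIndex_dvd_index_of_normal' _ _
  · intro G _ _ N _ hG x hd
    obtain ⟨y, rfl⟩ := QuotientGroup.mk'_surjective N x
    exact hG y (hd.trans (PrimePowerClass.Baer.classIndex_map_dvd (QuotientGroup.mk' N)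
      (QuotientGroup.mk'_surjective N) y).2)
  · intro G _ _ hs hna hG
    haveI := hs
    rcases Nat.even_or_odd (Nat.card G) with he | ho
    · exact not_noFour hna he hG
    · haveI := hFT G ho
      exact hna ⟨⟨IsSimpleGroup.comm_iff_isSolvable.2 inferInstance⟩⟩

end Cfsg.Agent.Lib.FTClassSize
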