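import Cfsg.Agent.Lib.FTClassSize.Basic
import Cfsg.Agent.Lib.Involutions.BaerSuzuki
import Cfsg.Agent.Lib.LAEven54.Inverted
import Cfsg.Agent.Lib.Coprime.Conjugacy
import Cfsg.Agent.Lib.Coprime.Glauberman

/-!
Groups without inverted elements of odd prime order are 2-closed (Baer–Suzuki), hence solvable
given the odd order theorem.  Application: if the common-divisor graph on the class sizes of every
subgroup is complete the group is solvable, as a dihedral group of order `2n`, `n` odd, has classes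
of sizes `2` and `n`.
-/

universe u

namespace Cfsg.Agent.Lib.FTClassSize

open Subgroup

variable {G : Type u} [Group G] [Finite G]

/-- No element of odd prime order is inverted by a `2`-element. -/
def NoInverted (G : Type u) [Group G] : Prop :=
  ∀ (p : ℕ) (x g : G), p.Prime → p ≠ 2 → orderOf x = p → (∃ k : ℕ, orderOf g = 2 ^ k) →
    g * x * g⁻¹ ≠ x⁻¹

omit [Finite G] in
theorem mem_normalizer_of_forall [Finite G] {H : Subgroup G} {g : G}
    (h : ∀ a ∈ H, g * a * g⁻¹ ∈ H) : g ∈ normalizer (H : Set G) := by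
  rw [mem_normalizer_iff_map_conj_eq]
  refine Subgroup.eq_of_le_of_card_ge ?_ (card_map_of_injective (MulAut.conj g).injective).ge
  rintro _ ⟨a, ha, rfl⟩
  exact h a ha

omit [Finite G] in
theorem orderOf_odd_pow_conj {g x : G} {m : ℕ} (hm : Odd m) (h : g * x * g⁻¹ = x⁻¹) :
    g ^ m * x * (g ^ m)⁻¹ = x⁻¹ := by
  have h2 : g ^ 2 * x * (g ^ 2)⁻¹ = x := by
    calc g ^ 2 * x * (g ^ 2)⁻¹ = g * (g * x * g⁻¹) * g⁻¹ := by rw [sq]; group
      _ = x := by rw [h, ← conj_inv, h, inv_inv]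
  obtain ⟨j, rfl⟩ := hm
  have hj : ∀ i : ℕ, (g ^ 2) ^ i * x * ((g ^ 2) ^ i)⁻¹ = x := by
    intro i
    induction i with
    | zero => simp
    | succ i ih =>
      calc (g ^ 2) ^ (i + 1) * x * ((g ^ 2) ^ (i + 1))⁻¹
          = (g ^ 2) ^ i * (g ^ 2 * x * (g ^ 2)⁻¹) * ((g ^ 2) ^ i)⁻¹ := by rw [pow_succ]; group
        _ = x := by rw [h2, ih]
  calc g ^ (2 * j + 1) * x * (g ^ (2 * j + 1))⁻¹
      = g * ((g ^ 2) ^ j * x * ((g ^ 2) ^ j)⁻¹) * g⁻¹ := by rw [← pow_mul, pow_succ']; group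
    _ = x⁻¹ := by rw [hj, h]

/-- Without inverted elements of odd prime order, `G / O₂(G)` has odd order. -/
theorem odd_quotient_pCore (h : NoInverted G) : Odd (Nat.card (G ⧸ Cfsg.pCore 2 G)) := by
  by_contra hodd
  rw [Nat.not_odd_iff_even] at hodd
  obtain ⟨t, ht⟩ := Cfsg.Agent.Lib.Involutions.Basic.exists_invol hodd
  obtain ⟨y, hy1, hyo, hty⟩ := Cfsg.Agent.Lib.Involutions.BaerSuzuki.exists_odd_inverted t ht
    fun N hN hN2 htN => by
      haveI := hN
      have := Cfsg.Agent.Lib.Cores.le_pCore hN2 htN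
      rw [Cfsg.Agent.Lib.Cores.pCore_quotient_pCore, mem_bot] at this
      exact Cfsg.Agent.Lib.Involutions.Basic.invol_ne_one ht this
  obtain ⟨p, hp, hpy⟩ := Nat.exists_prime_and_dvd fun e => hy1 (orderOf_eq_one_iff.1 e)
  have hp2 : p ≠ 2 := by
    rintro rfl
    exact (Nat.not_even_iff_odd.2 hyo) (even_iff_two_dvd.2 hpy)
  haveI := Fact.mk hp
  set z := y ^ (orderOf y / p)
  have hz : orderOf z = p := by
    rw [orderOf_pow_of_dvd (Nat.div_pos (Nat.le_of_dvd (orderOf_pos y) hpy) hp.pos).ne'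
      (Nat.div_dvd_of_dvd hpy), Nat.div_div_self hpy (orderOf_pos y).ne']
  have htz : t * z * t⁻¹ = z⁻¹ := by rw [← conj_pow, hty, inv_pow]
  set f := QuotientGroup.mk' (Cfsg.pCore 2 G) with hf
  obtain ⟨t₀, ht₀⟩ := QuotientGroup.mk'_surjective _ t
  set X := (zpowers z).comap f with hX
  obtain ⟨P⟩ : Nonempty (Sylow p X) := inferInstance
  obtain ⟨k, hk⟩ := (Cfsg.Agent.Lib.Cores.pCore_isPGroup (G := G) 2).exists_card_eq
  have hXc : Nat.card X = p * 2 ^ k := by
    have e := Subgroup.relIndex_ker X f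
    rw [QuotientGroup.ker_mk', Subgroup.map_comap_eq_self_of_surjective
      (QuotientGroup.mk'_surjective _), Nat.card_zpowers, hz] at e
    have hle : Cfsg.pCore 2 G ≤ X := fun a ha => by
      show f a ∈ zpowers z
      rw [show f a = 1 from (QuotientGroup.eq_one_iff a).2 ha]; exact one_mem _
    rw [← e, ← hk, mul_comm, ← relIndex_bot_left, ← relIndex_bot_left,
      relIndex_mul_relIndex _ _ _ bot_le hle]
  have hPc : Nat.card P = p := by
    rw [P.card_eq_multiplicity, hXc, Nat.factorization_mul hp.ne_zero (by positivity),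
      Finsupp.add_apply, hp.factorization_self, Nat.factorization_pow, Finsupp.smul_apply,
      Nat.prime_two.factorization, Finsupp.single_eq_of_ne hp2, smul_zero, add_zero, pow_one]
  set P' : Subgroup G := (P : Subgroup X).map X.subtype
  have hP'c : Nat.card P' = p := by rw [card_map_of_injective X.subtype_injective, hPc]
  have ht₀X : ∀ a, a ∈ X ↔ t₀ * a * t₀⁻¹ ∈ X := fun a => by
    show f a ∈ zpowers z ↔ f (t₀ * a * t₀⁻¹) ∈ zpowers z
    rw [map_mul, map_mul, map_inv, ht₀]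
    have hn : ∀ b, b ∈ zpowers z → t * b * t⁻¹ ∈ zpowers z := fun b hb => by
      obtain ⟨i, rfl⟩ := mem_zpowers_iff.1 hb
      rw [← conj_zpow, htz]
      exact zpow_mem (inv_mem (mem_zpowers z)) i
    refine ⟨hn _, fun hb => ?_⟩
    have := hn _ hb
    rwa [show t * (t * f a * t⁻¹) * t⁻¹ = (t * t) * f a * (t * t)⁻¹ by group,
      Cfsg.Agent.Lib.Involutions.Basic.invol_mul_self ht, one_mul, inv_one, mul_one] at this
  -- Frattini argument
  haveI hXn : (X.subgroupOf (normalizer (X : Set G))).Normal := inferInstance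
  obtain ⟨o, hoX, hoP⟩ : ∃ o ∈ X, o * t₀ ∈ normalizer (P' : Set G) := by
    let e : X ≃* X :=
      { toFun := fun a => ⟨t₀ * a * t₀⁻¹, (ht₀X a).1 a.2⟩
        invFun := fun a => ⟨t₀⁻¹ * a * t₀, (ht₀X _).2 (by simp [mul_assoc])⟩
        left_inv := fun a => Subtype.ext (by simp [mul_assoc])
        right_inv := fun a => Subtype.ext (by simp [mul_assoc])
        map_mul' := fun a b => Subtype.ext (by simp [mul_assoc]) }
    let Q : Sylow p X := Sylow.ofCard ((P : Subgroup X).map e.toMonoidHom) (by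
      rw [card_map_of_injective e.injective, P.card_eq_multiplicity])
    obtain ⟨o, ho⟩ := MulAction.exists_smul_eq X Q P
    refine ⟨o, o.2, ?_⟩
    refine mem_normalizer_of_forall ?_
    rintro _ ⟨a, ha, rfl⟩
    have hm : o * e a * o⁻¹ ∈ (P : Subgroup X) := by
      rw [← ho, Sylow.coe_subgroup_smul]
      exact ⟨e a, ⟨a, ha, rfl⟩, by simp⟩
    refine ⟨o * e a * o⁻¹, hm, ?_⟩
    simp [e, mul_assoc]
  obtain ⟨⟨x, hxP⟩, hx⟩ := exists_prime_orderOf_dvd_card' (G := P') p (dvd_of_eq hP'c.symm)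
  rw [orderOf_mk] at hx
  have hxX : f x ∈ zpowers z := by
    obtain ⟨a, -, rfl⟩ := hxP
    exact a.2
  set g₁ := o * t₀
  have hfg : f g₁ * f x * (f g₁)⁻¹ = (f x)⁻¹ := by
    obtain ⟨i, hi⟩ := mem_zpowers_iff.1 hxX
    obtain ⟨j, hj⟩ := mem_zpowers_iff.1 (show f o ∈ zpowers z from hoX)
    rw [map_mul, ht₀, ← hi, ← hj]
    calc z ^ j * t * z ^ i * (z ^ j * t)⁻¹ = z ^ j * (t * z ^ i * t⁻¹) * (z ^ j)⁻¹ := by group
      _ = (z ^ i)⁻¹ := by rw [← conj_zpow, htz, inv_zpow]; group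
  have hconj : g₁ * x * g₁⁻¹ ∈ P' := ((mem_normalizer_iff.1 hoP) x).1 hxP
  have hinv : g₁ * x * g₁⁻¹ = x⁻¹ := by
    have hker : x * (g₁ * x * g₁⁻¹) ∈ Cfsg.pCore 2 G := by
      rw [← QuotientGroup.eq_one_iff]
      show f (x * (g₁ * x * g₁⁻¹)) = 1
      rw [map_mul, map_mul, map_mul, map_inv, hfg, mul_inv_cancel]
    have hdisj : P' ⊓ Cfsg.pCore 2 G = ⊥ := by
      refine inf_eq_bot_of_coprime ?_
      rw [hP'c, hk]
      exact Nat.Coprime.pow_right _ ((Nat.coprime_primes hp Nat.prime_two).2 hp2)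
    have := hdisj ▸ (show x * (g₁ * x * g₁⁻¹) ∈ P' ⊓ Cfsg.pCore 2 G from
      mem_inf.2 ⟨mul_mem hxP hconj, hker⟩)
    exact (inv_eq_of_mul_eq_one_right (mem_bot.1 this)).symm
  obtain ⟨m, hm, hm2⟩ := Cfsg.Agent.Lib.LAEven54.Inverted.exists_two_part g₁
  exact h p x (g₁ ^ m) hp hp2 hx hm2 (orderOf_odd_pow_conj hm hinv)

/-- Given the odd order theorem, such a group is solvable. -/
theorem isSolvable_of_noInverted (hFT : OddSolvable.{u}) (h : NoInverted G) :
    Group.IsSolvable G := by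
  haveI := hFT _ (odd_quotient_pCore h)
  haveI : Fact (Nat.Prime 2) := ⟨Nat.prime_two⟩
  haveI : Group.IsSolvable (Cfsg.pCore 2 G) :=
    Cfsg.Agent.Lib.Coprime.isSolvable_of_isPGroup
      (Cfsg.Agent.Lib.Cores.pCore_isPGroup (G := G) 2)
  exact solvable_of_ker_le_range (Cfsg.pCore 2 G).subtype (QuotientGroup.mk' (Cfsg.pCore 2 G))
    (by rw [QuotientGroup.ker_mk', Subgroup.range_subtype])

/-- In a dihedral-type subgroup the class sizes of generators are coprime. -/
theorem noInverted_of_complete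
    (h : ∀ (H : Subgroup G) (x y : H), 1 < (centralizer ({x} : Set H)).index →
      1 < (centralizer ({y} : Set H)).index →
      ¬ ((centralizer ({x} : Set H)).index).Coprime (centralizer ({y} : Set H)).index) :
    NoInverted G := by
  intro p x g hp hp2 hx hg hinv
  obtain ⟨k, hk⟩ := hg
  set H := zpowers g ⊔ zpowers x with hH
  have hN : zpowers g ≤ normalizer (zpowers x : Set G) := by
    rw [zpowers_le]
    refine mem_normalizer_of_forall ?_
    rintro _ ⟨i, rfl⟩
    show g * x ^ i * g⁻¹ ∈ zpowers x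
    rw [← conj_zpow, hinv]
    exact zpow_mem (inv_mem (mem_zpowers x)) i
  have hcop : (Nat.card (zpowers g)).Coprime (Nat.card (zpowers x)) := by
    rw [Nat.card_zpowers, Nat.card_zpowers, hk, hx]
    exact Nat.Coprime.pow_left _ ((Nat.coprime_primes Nat.prime_two hp).2 hp2.symm)
  have hdisj : Disjoint (zpowers g) (zpowers x) := by
    rw [disjoint_iff]
    exact inf_eq_bot_of_coprime hcop
  have hcard : Nat.card H = 2 ^ k * p := by
    rw [hH, Cfsg.Agent.Lib.Coprime.card_sup_of_disjoint hN hdisj, Nat.card_zpowers,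
      Nat.card_zpowers, hk, hx]
  let x' : H := ⟨x, mem_sup_right (mem_zpowers x)⟩
  let g' : H := ⟨g, mem_sup_left (mem_zpowers g)⟩
  have hne : x ≠ x⁻¹ := by
    intro e
    have h2 : orderOf x ∣ 2 := orderOf_dvd_of_pow_eq_one (by
      rw [sq]; exact mul_eq_one_iff_eq_inv.2 e)
    rw [hx] at h2
    exact hp2 ((Nat.prime_dvd_prime_iff_eq hp Nat.prime_two).1 h2)
  have hnc : g' * x' ≠ x' * g' := fun e => hne (by
    rw [← hinv, show g * x = x * g from congrArg Subtype.val e, mul_inv_cancel_right])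
  have key : ∀ a b : H, a * b ≠ b * a → ∀ n, n * orderOf a = Nat.card H →
      1 < (centralizer ({a} : Set H)).index ∧ (centralizer ({a} : Set H)).index ∣ n := by
    intro a b hab n hn
    refine ⟨one_lt_index_of_ne_top fun e => hab ?_, ?_⟩
    · exact (mem_centralizer_singleton_iff.1 (e ▸ mem_top b : b ∈ centralizer ({a} : Set H))).symm
    · have hle : zpowers a ≤ centralizer ({a} : Set H) :=
        zpowers_le.2 (mem_centralizer_singleton_iff.2 rfl)
      refine (index_dvd_of_le hle).trans (dvd_of_eq ?_)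
      have := (zpowers a).index_mul_card
      rw [Nat.card_zpowers, ← hn] at this
      exact Nat.eq_of_mul_eq_mul_right (orderOf_pos a) this
  obtain ⟨hx1, hxd⟩ := key x' g' (Ne.symm hnc) (2 ^ k) (by rw [orderOf_mk, hx, hcard])
  obtain ⟨hg1, hgd⟩ := key g' x' hnc p (by rw [orderOf_mk, hk, hcard, mul_comm])
  exact h H x' g' hx1 hg1 (Nat.Coprime.coprime_dvd_left hxd (Nat.Coprime.coprime_dvd_right hgd
    (Nat.Coprime.pow_left _ ((Nat.coprime_primes Nat.prime_two hp).2 hp2.symm))))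

end Cfsg.Agent.Lib.FTClassSize
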