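import Cfsg.Agent.Lib.FTClassSize.NoReal
import Cfsg.Agent.S3862

/-!
Real class sizes with constant 2-part and real elements of a Sylow 2-subgroup central in it:
solvable and `O^{2'}(G)` 2-nilpotent, given the odd order theorem.

Either all real 2-elements are central, and the group has a normal 2-complement, or the constant is
zero, and then no element of odd prime order is inverted, so the group is 2-closed up to an odd
quotient.
-/

universe u

namespace Cfsg.Agent.Lib.FTClassSize

open Subgroup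

variable {G : Type u} [Group G] [Finite G]

/-- Normal complements for `2` pass to subgroups. -/
theorem hasNormalPComplement_two_sub (h : Cfsg.HasNormalPComplement 2 G) (H : Subgroup G) :
    Cfsg.HasNormalPComplement 2 H := by
  haveI : Fact (Nat.Prime 2) := ⟨Nat.prime_two⟩
  obtain ⟨P, N, hN, hc⟩ := h
  haveI := hN
  obtain ⟨Q⟩ : Nonempty (Sylow 2 H) := inferInstance
  obtain ⟨j, hj⟩ := P.2.exists_card_eq
  have hNi : N.index = 2 ^ j := by rw [hc.symm.index_eq_card, hj]
  have hNo : (Nat.card N).Coprime 2 := by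
    rw [Nat.coprime_comm, Nat.prime_two.coprime_iff_not_dvd, ← hc.index_eq_card]
    exact P.not_dvd_index
  refine ⟨Q, N.subgroupOf H, inferInstance, ?_⟩
  have hd : (N.subgroupOf H).index ∣ 2 ^ j := by
    rw [← hNi]
    exact relIndex_dvd_index_of_normal N H
  obtain ⟨i, -, hi⟩ := (Nat.dvd_prime_pow Nat.prime_two).1 hd
  have hco : (Nat.card (N.subgroupOf H)).Coprime 2 :=
    Nat.Coprime.coprime_dvd_left (card_comap_dvd_of_injective N H.subtype H.subtype_injective) hNo
  have hQ : Nat.card (Q : Subgroup H) = 2 ^ i := by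
    rw [Q.card_eq_multiplicity, ← (N.subgroupOf H).card_mul_index, hi,
      Nat.factorization_mul Nat.card_pos.ne' (by positivity), Finsupp.add_apply,
      Nat.factorization_eq_zero_of_not_dvd (Nat.prime_two.coprime_iff_not_dvd.1 hco.symm),
      zero_add, Nat.prime_two.factorization_pow, Finsupp.single_eq_same]
  refine isComplement'_of_coprime ?_ ?_
  · rw [hQ, ← hi, (N.subgroupOf H).card_mul_index]
  · rw [hQ]; exact hco.pow_right i

/-- A `2`-element inverting an element whose centraliser has odd index centralises it. -/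
theorem commute_of_odd_index {x g : G} (hg : ∃ k : ℕ, orderOf g = 2 ^ k)
    (hinv : g * x * g⁻¹ = x⁻¹) (hodd : ¬ 2 ∣ (centralizer ({x} : Set G)).index) :
    Commute g x := by
  set C := centralizer ({x} : Set G)
  have hN : g ∈ normalizer (C : Set G) := mem_normalizer_of_forall fun a ha => by
    rw [mem_centralizer_singleton_iff] at ha ⊢
    have hc : Commute (g * a * g⁻¹) (g * x * g⁻¹) :=
      (show Commute a x from ha).map (MulAut.conj g).toMonoidHom
    rw [hinv, Commute.inv_right_iff] at hc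
    exact hc.eq
  let q : normalizer (C : Set G) →* normalizer (C : Set G) ⧸ C.subgroupOf (normalizer (C : Set G)) :=
    QuotientGroup.mk' _
  obtain ⟨k, hk⟩ := hg
  have hcard : ¬ 2 ∣ Nat.card (normalizer (C : Set G) ⧸ C.subgroupOf (normalizer (C : Set G))) :=
    fun hd => hodd (hd.trans (relIndex_dvd_index_of_le le_normalizer))
  have h1 : orderOf (q ⟨g, hN⟩) ∣ 1 := by
    have hc : (2 ^ k).Coprime
        (Nat.card (normalizer (C : Set G) ⧸ C.subgroupOf (normalizer (C : Set G)))) :=
      Nat.Coprime.pow_left _ (Nat.prime_two.coprime_iff_not_dvd.2 hcard)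
    rw [← hc.gcd_eq_one]
    refine Nat.dvd_gcd ?_ (orderOf_dvd_natCard _)
    exact (orderOf_map_dvd q _).trans (by rw [orderOf_mk, hk])
  have h2 : q ⟨g, hN⟩ = 1 := orderOf_eq_one_iff.1 (Nat.dvd_one.1 h1)
  exact mem_centralizer_singleton_iff.1
    (mem_subgroupOf.1 ((QuotientGroup.eq_one_iff _).1 h2))

/-- The statement, given the odd order theorem. -/
theorem solvable_and_pComplement (hFT : OddSolvable.{u}) (a : ℕ)
    (h : ∀ x : G, IsConj x x⁻¹ → x ∉ center G →
      ((centralizer ({x} : Set G)).index).factorization 2 = a)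
    (S : Sylow 2 G)
    (hS : ∀ s : ↥(S : Subgroup G), IsConj s s⁻¹ → s ∈ center ↥(S : Subgroup G)) :
    Group.IsSolvable G ∧ Cfsg.HasNormalPComplement 2
      ↥(closure {g : G | ∃ k : ℕ, orderOf g = 2 ^ k}) := by
  haveI : Fact (Nat.Prime 2) := ⟨Nat.prime_two⟩
  by_cases hc : ∀ x : G, (∃ j : ℕ, orderOf x = 2 ^ j) → IsConj x x⁻¹ → x ∈ center G
  · have hcomp := Cfsg.Agent.S3862.result hc
    refine ⟨?_, hasNormalPComplement_two_sub hcomp _⟩
    obtain ⟨P, N, hN, hcp⟩ := hcomp
    haveI := hN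
    have hodd : Odd (Nat.card N) := by
      rw [← hcp.index_eq_card, Nat.odd_iff, ← Nat.two_dvd_ne_zero]
      exact P.not_dvd_index
    haveI := hFT N hodd
    haveI : Group.IsSolvable (G ⧸ N) := by
      have hp : IsPGroup 2 (G ⧸ N) := by
        obtain ⟨j, hj⟩ := P.2.exists_card_eq
        exact IsPGroup.of_card (n := j) (by
          rw [← Subgroup.index, hcp.symm.index_eq_card, hj])
      haveI := hp.isNilpotent
      infer_instance
    exact solvable_of_ker_le_range N.subtype (QuotientGroup.mk' N)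
      (by rw [QuotientGroup.ker_mk', Subgroup.range_subtype])
  push Not at hc
  obtain ⟨y, ⟨j, hj⟩, hreal, hyc⟩ := hc
  obtain ⟨g, hg⟩ := isConj_iff.1 hreal
  obtain ⟨m, hm, hm2⟩ := Cfsg.Agent.Lib.LAEven54.Inverted.exists_two_part g
  set g' := g ^ m
  have hg' : g' * y * g'⁻¹ = y⁻¹ := orderOf_odd_pow_conj hm hg
  set C := centralizer ({y} : Set G)
  -- a 2-subgroup containing a Sylow 2-subgroup of the centraliser, and an inverting element
  have ha : ¬ 2 ∣ C.index := by
    obtain ⟨R⟩ : Nonempty (Sylow 2 ↥(C ⊔ zpowers g')) := inferInstance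
    set X := C ⊔ zpowers g'
    have hCn : zpowers g' ≤ normalizer (C : Set G) := zpowers_le.2 (mem_normalizer_of_forall
      fun b hb => by
        rw [mem_centralizer_singleton_iff] at hb ⊢
        have hh : Commute (g' * b * g'⁻¹) (g' * y * g'⁻¹) :=
          (show Commute b y from hb).map (MulAut.conj g').toMonoidHom
        rw [hg', Commute.inv_right_iff] at hh
        exact hh.eq)
    -- a 2-element inverting `y` together with `y` generates a 2-group
    have hyn : zpowers g' ≤ normalizer (zpowers y : Set G) := zpowers_le.2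
      (mem_normalizer_of_forall fun b hb => by
        obtain ⟨i, rfl⟩ := mem_zpowers_iff.1 hb
        rw [← conj_zpow, hg']
        exact zpow_mem (inv_mem (mem_zpowers y)) i)
    have hW : IsPGroup 2 ↥(zpowers g' ⊔ zpowers y) := by
      obtain ⟨k, hk⟩ := hm2
      exact IsPGroup.to_sup_of_normal_right' (IsPGroup.of_card (n := k) (by
        rw [Nat.card_zpowers]; exact hk)) (IsPGroup.of_card (n := j) (by
        rw [Nat.card_zpowers]; exact hj)) hyn
    have hWX : zpowers g' ⊔ zpowers y ≤ X :=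
      sup_le le_sup_right (le_sup_of_le_left (zpowers_le.2 (mem_centralizer_singleton_iff.2 rfl)))
    obtain ⟨R', hR'⟩ := (hW.comap_of_injective X.subtype X.subtype_injective).exists_le_sylow
    obtain ⟨P, hP⟩ := (R'.2.map X.subtype).exists_le_sylow
    obtain ⟨k, hk⟩ := MulAction.exists_smul_eq G P S
    have hconj : ∀ b ∈ (P : Subgroup G), k * b * k⁻¹ ∈ (S : Subgroup G) := by
      intro b hb
      rw [← hk, Sylow.coe_subgroup_smul]
      exact ⟨b, hb, rfl⟩
    have hgP : g' ∈ (P : Subgroup G) := hP ⟨⟨g', hWX (mem_sup_left (mem_zpowers g'))⟩,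
      hR' (mem_sup_left (mem_zpowers g')), rfl⟩
    have hyP : y ∈ (P : Subgroup G) := hP ⟨⟨y, hWX (mem_sup_right (mem_zpowers y))⟩,
      hR' (mem_sup_right (mem_zpowers y)), rfl⟩
    let s : ↥(S : Subgroup G) := ⟨k * y * k⁻¹, hconj y hyP⟩
    have hs : IsConj s s⁻¹ := isConj_iff.2 ⟨⟨k * g' * k⁻¹, hconj g' hgP⟩, Subtype.ext (by
      show k * g' * k⁻¹ * (k * y * k⁻¹) * (k * g' * k⁻¹)⁻¹ = (k * y * k⁻¹)⁻¹
      calc k * g' * k⁻¹ * (k * y * k⁻¹) * (k * g' * k⁻¹)⁻¹ = k * (g' * y * g'⁻¹) * k⁻¹ := by group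
        _ = (k * y * k⁻¹)⁻¹ := by rw [hg']; group)⟩
    have hsc := mem_center_iff.1 (hS s hs)
    intro hd
    apply P.not_dvd_index
    refine hd.trans (index_dvd_of_le fun b hb => mem_centralizer_singleton_iff.2 ?_)
    have hb' := congrArg Subtype.val (hsc ⟨k * b * k⁻¹, hconj b hb⟩)
    have hb'' : k * b * k⁻¹ * (k * y * k⁻¹) = k * y * k⁻¹ * (k * b * k⁻¹) := hb'
    calc b * y = k⁻¹ * (k * b * k⁻¹ * (k * y * k⁻¹)) * k := by group
      _ = k⁻¹ * (k * y * k⁻¹ * (k * b * k⁻¹)) * k := by rw [hb'']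
      _ = y * b := by group
  have ha0 : a = 0 := by
    rw [← h y hreal hyc]
    exact Nat.factorization_eq_zero_of_not_dvd ha
  have hno : NoInverted G := by
    intro p x k hp hp2 hx hk2 hinv
    have hne : x⁻¹ ≠ x := fun e => hp2 (by
      have h2 : orderOf x ∣ 2 := orderOf_dvd_of_pow_eq_one (by
        rw [sq]; exact mul_eq_one_iff_eq_inv.2 e.symm)
      rw [hx] at h2
      exact (Nat.prime_dvd_prime_iff_eq hp Nat.prime_two).1 h2)
    have hxc : x ∉ center G := fun hxc => hne (by
      rw [← hinv, mem_center_iff.1 hxc k, mul_inv_cancel_right])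
    have hi := h x (isConj_iff.2 ⟨k, hinv⟩) hxc
    rw [ha0] at hi
    have hnd : ¬ 2 ∣ (centralizer ({x} : Set G)).index := fun hd => by
      have := Nat.prime_two.factorization_pos_of_dvd index_ne_zero_of_finite hd
      omega
    have hcm := commute_of_odd_index hk2 hinv hnd
    exact hne (by rw [← hinv, hcm.eq, mul_inv_cancel_right])
  refine ⟨isSolvable_of_noInverted hFT hno, ?_⟩
  have hle : closure {g : G | ∃ k : ℕ, orderOf g = 2 ^ k} ≤ Cfsg.pCore 2 G := by
    rw [closure_le]
    rintro b ⟨k, hk⟩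
    rw [SetLike.mem_coe, ← QuotientGroup.eq_one_iff]
    have ho := odd_quotient_pCore hno
    have hc : (2 ^ k).Coprime (Nat.card (G ⧸ Cfsg.pCore 2 G)) :=
      Nat.Coprime.pow_left _ (Nat.coprime_two_left.2 ho)
    refine orderOf_eq_one_iff.1 (Nat.dvd_one.1 ?_)
    rw [← hc.gcd_eq_one]
    exact Nat.dvd_gcd ((orderOf_map_dvd (QuotientGroup.mk' _) b).trans (by rw [hk]))
      (orderOf_dvd_natCard _)
  obtain ⟨P⟩ : Nonempty (Sylow 2 ↥(closure {g : G | ∃ k : ℕ, orderOf g = 2 ^ k})) := inferInstance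
  refine ⟨P, ⊥, inferInstance, ?_⟩
  have hp : IsPGroup 2 ↥(closure {g : G | ∃ k : ℕ, orderOf g = 2 ^ k}) :=
    (Cfsg.Agent.Lib.Cores.pCore_isPGroup (G := G) 2).to_le hle
  have htop : (P : Subgroup ↥(closure {g : G | ∃ k : ℕ, orderOf g = 2 ^ k})) = ⊤ :=
    (P.3 (hp.to_subgroup ⊤) le_top).symm
  rw [htop]
  exact isComplement'_bot_top

end Cfsg.Agent.Lib.FTClassSize
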